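import Cfsg.Agent.H898.Co3.Eigb
import Cfsg.Agent.H627.Co3.E7I

/-!
# S1920, case B, `E₇(q)`: the sign group (helper898)

`t0_E7` : if the set `Y` consists of commuting self-adjoint maps of square `ν²` then `G` contains a 2-group `W` of order at
least `2^10` of elements represented by sign changes commuting with `Y`.
-/

set_option autoImplicit false
set_option linter.unusedSectionVars false

namespace Cfsg.Agent.H898.Co3

open Module Cfsg.Agent.H627.Co3
open scoped symmDiff

universe u v w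

section sgn

variable {F V : Type*} [Field F] [AddCommGroup V] [Module F V] (v : Basis (Fin 12) F V)

/-- the sign of `j` in `J` -/
def sg (F : Type*) [Field F] (J : Finset (Fin 12)) (j : Fin 12) : F := if j ∈ J then -1 else 1

theorem sgn_basis (J : Finset (Fin 12)) (j : Fin 12) : sgn v J (v j) = sg F J j • v j := by
  unfold sgn sg
  rw [Basis.constr_basis]
  split_ifs
  · rw [neg_smul, one_smul]
  · rw [one_smul]

theorem sg_mul (J K : Finset (Fin 12)) (j : Fin 12) : sg F J j * sg F K j = sg F (J ∆ K) j := by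
  unfold sg
  simp only [Finset.mem_symmDiff]
  by_cases h1 : j ∈ J <;> by_cases h2 : j ∈ K <;> simp [h1, h2]

theorem sgn_mul (J K : Finset (Fin 12)) : sgn v J * sgn v K = sgn v (J ∆ K) := by
  refine v.ext fun j => ?_
  rw [Module.End.mul_apply, sgn_basis, map_smul, sgn_basis, sgn_basis, smul_smul, mul_comm, sg_mul]

theorem sgn_empty : sgn v ∅ = 1 := by
  refine v.ext fun j => ?_
  rw [sgn_basis, Module.End.one_apply]
  simp [sg]

theorem sgn_comm {M : Module.End F V} (hM : ∀ i, ∃ c : F, M (v i) = c • v i) (J : Finset (Fin 12)) :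
    sgn v J * M = M * sgn v J := by
  refine v.ext fun j => ?_
  obtain ⟨c, hc⟩ := hM j
  rw [Module.End.mul_apply, Module.End.mul_apply, hc, map_smul, sgn_basis, map_smul, hc, smul_comm]

/-- proportional sign changes -/
theorem eq_or_compl (h2 : (2 : F) ≠ 0) {J K : Finset (Fin 12)} {c : F} (h : sgn v K = c • sgn v J) : K = J ∨ K = Jᶜ := by
  have h1 : ∀ j, sg F K j = c * sg F J j := by
    intro j
    have h3 := congrArg (fun f : Module.End F V => f (v j)) h
    simp only [LinearMap.smul_apply] at h3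
    rw [sgn_basis, sgn_basis, smul_smul] at h3
    have h4 : (sg F K j - c * sg F J j) • v j = 0 := by rw [sub_smul, h3, sub_self]
    exact sub_eq_zero.1 ((smul_eq_zero.1 h4).resolve_right (v.ne_zero j))
  have hne : (-1 : F) ≠ 1 := by
    intro h
    apply h2
    linear_combination -h
  have hsg : ∀ (J : Finset (Fin 12)) (j : Fin 12), (sg F J j = 1 ↔ j ∉ J) ∧ (sg F J j = -1 ↔ j ∈ J) := by
    intro J j
    unfold sg
    by_cases hj : j ∈ J
    · simp [hj, hne]
    · simp [hj, hne.symm]
  have hcc : c = 1 ∨ c = -1 := by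
    have h3 := h1 0
    by_cases hJ : (0 : Fin 12) ∈ J <;> by_cases hK : (0 : Fin 12) ∈ K
    · rw [((hsg J 0).2).2 hJ, ((hsg K 0).2).2 hK] at h3
      left; linear_combination h3
    · rw [((hsg J 0).2).2 hJ, ((hsg K 0).1).2 hK] at h3
      right; linear_combination h3
    · rw [((hsg J 0).1).2 hJ, ((hsg K 0).2).2 hK] at h3
      right; linear_combination -h3
    · rw [((hsg J 0).1).2 hJ, ((hsg K 0).1).2 hK] at h3
      left; linear_combination -h3
  rcases hcc with rfl | rfl
  · left
    ext j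
    rw [← (hsg K j).2, ← (hsg J j).2, h1 j, one_mul]
  · right
    ext j
    rw [Finset.mem_compl, ← (hsg K j).2, ← (hsg J j).1, h1 j]
    constructor
    · intro h; linear_combination -h
    · intro h; rw [h, mul_one]

end sgn

section count

variable {F : Type*} [Field F] [Finite F]

theorem isSquare_mul_of_not {a b : F} (ha : ¬ IsSquare a) (hb : ¬ IsSquare b) : IsSquare (a * b) := by
  classical
  have := Fintype.ofFinite F
  have ha0 : a ≠ 0 := by rintro rfl; exact ha ⟨0, by simp⟩
  have hb0 : b ≠ 0 := by rintro rfl; exact hb ⟨0, by simp⟩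
  by_cases h2 : ringChar F = 2
  · exact absurd (FiniteField.isSquare_of_char_two h2 a) ha
  · rw [← quadraticChar_one_iff_isSquare (mul_ne_zero ha0 hb0), map_mul,
      quadraticChar_neg_one_iff_not_isSquare.2 ha, quadraticChar_neg_one_iff_not_isSquare.2 hb]
    norm_num

/-- the good sets of signs -/
def GJ (d : Fin 12 → F) (J : Finset (Fin 12)) : Prop := Even J.card ∧ IsSquare (∏ j ∈ J, d j)

theorem prod_symmDiff {d : Fin 12 → F} (J K : Finset (Fin 12)) :
    (∏ j ∈ J ∆ K, d j) * (∏ j ∈ J ∩ K, d j) ^ 2 = (∏ j ∈ J, d j) * ∏ j ∈ K, d j := by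
  have h1 : ∏ j ∈ J ∆ K, d j = (∏ j ∈ J \ K, d j) * ∏ j ∈ K \ J, d j := by
    rw [show J ∆ K = (J \ K) ∪ (K \ J) from rfl, Finset.prod_union]
    exact disjoint_sdiff_sdiff
  have h2 := Finset.prod_inter_mul_prod_sdiff J K d
  have h3 := Finset.prod_inter_mul_prod_sdiff K J d
  rw [Finset.inter_comm K J] at h3
  rw [h1, ← h2, ← h3]
  ring

theorem card_symmDiff (J K : Finset (Fin 12)) : (J ∆ K).card + 2 * (J ∩ K).card = J.card + K.card := by
  have h1 : (J ∆ K).card = (J \ K).card + (K \ J).card := by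
    rw [show J ∆ K = (J \ K) ∪ (K \ J) from rfl, Finset.card_union_of_disjoint]
    exact disjoint_sdiff_sdiff
  have h2 := Finset.card_inter_add_card_sdiff J K
  have h3 := Finset.card_inter_add_card_sdiff K J
  rw [Finset.inter_comm K J] at h3
  omega

theorem isSquare_of_mul_sq {a b : F} (hb : b ≠ 0) (h : IsSquare (a * b ^ 2)) : IsSquare a := by
  obtain ⟨c, hc⟩ := h
  refine ⟨c / b, ?_⟩
  field_simp
  rw [hc]
  ring

theorem gj_symmDiff {d : Fin 12 → F} (hd : ∀ j, d j ≠ 0) {J K : Finset (Fin 12)} (h1 : (Even J.card ↔ Even K.card))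
    (h2 : IsSquare (∏ j ∈ J, d j) ↔ IsSquare (∏ j ∈ K, d j)) : GJ d (J ∆ K) := by
  constructor
  · have := card_symmDiff J K
    have h3 : Even (J.card + K.card) := by rw [Nat.even_add]; exact h1
    rw [← this, Nat.even_add] at h3
    exact h3.2 (even_two_mul _)
  · refine isSquare_of_mul_sq (b := ∏ j ∈ J ∩ K, d j) (Finset.prod_ne_zero_iff.2 fun j _ => hd j) ?_
    rw [prod_symmDiff]
    by_cases h : IsSquare (∏ j ∈ J, d j)
    · exact h.mul (h2.1 h)
    · exact isSquare_mul_of_not h fun h' => h (h2.2 h')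

open Classical in
theorem card_gj {d : Fin 12 → F} (hd : ∀ j, d j ≠ 0) :
    2 ^ 10 ≤ (Finset.univ.filter fun J : Finset (Fin 12) => GJ d J).card := by
  let φ : Finset (Fin 12) → Bool × Bool := fun J => (decide (Even J.card), decide (IsSquare (∏ j ∈ J, d j)))
  obtain ⟨y, _, hy⟩ := Finset.exists_le_card_fiber_of_mul_le_card_of_maps_to (s := (Finset.univ : Finset (Finset (Fin 12))))
    (t := (Finset.univ : Finset (Bool × Bool))) (f := φ) (n := 2 ^ 10) (fun _ _ => Finset.mem_univ _)
    ⟨(true, true), Finset.mem_univ _⟩ (by simp)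
  have hne : (Finset.univ.filter fun J : Finset (Fin 12) => φ J = y).Nonempty := by
    rw [← Finset.card_pos]
    exact lt_of_lt_of_le (by norm_num) hy
  obtain ⟨K, hK⟩ := hne
  rw [Finset.mem_filter] at hK
  refine hy.trans ?_
  refine Finset.card_le_card_of_injOn (fun J => J ∆ K) ?_ ?_
  · intro J hJ
    rw [Finset.mem_coe, Finset.mem_filter] at hJ
    rw [Finset.mem_coe, Finset.mem_filter]
    refine ⟨Finset.mem_univ _, ?_⟩
    have h1 : φ J = φ K := by rw [hJ.2, hK.2]
    have h2 := congrArg Prod.fst h1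
    have h3 := congrArg Prod.snd h1
    simp only [φ, decide_eq_decide] at h2 h3
    exact gj_symmDiff hd h2 h3
  · intro J _ J' _ h
    exact symmDiff_left_injective K h

end count

section main

variable {G : Type*} [Group G] {F : Type*} [Field F] {V : Type*} [AddCommGroup V] [Module F V]

theorem Rz {z : G} {B : LinearMap.BilinForm F V} (I : E7I z F B) : I.R z 1 1 := by
  have h1 := I.Rι (-1)
  rw [I.ι_neg] at h1
  have h2 := I.scal (c := -1) (d := 1) h1 (by simp) one_ne_zero
  rw [one_smul] at h2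
  convert h2 using 1
  ext i j
  simp

theorem t0_E7 [Finite G] [Finite F] {z : G} {B : LinearMap.BilinForm F V} (I : E7I z F B) (hz : z ≠ 1)
    (Y : Set (Module.End F V)) (hc : ∀ M ∈ Y, ∀ N ∈ Y, M * N = N * M)
    (hY : ∀ M ∈ Y, Sym B M ∧ ∃ ν : F, ν ≠ 0 ∧ M * M = ν ^ 2 • 1) :
    ∃ W : Subgroup G, IsPGroup 2 W ∧ 2 ^ 10 ≤ Nat.card W ∧ z ∈ W ∧
      ∀ w ∈ W, ∃ N, N ∈ I.Om ∧ I.R w 1 N ∧ N * N = 1 ∧ ∀ M ∈ Y, N * M = M * N := by
  classical
  have : FiniteDimensional F V := Module.finite_of_finrank_pos (by rw [I.dim]; norm_num)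
  obtain ⟨v, hv1, hv2, hv3⟩ := exists_eigenbasis (B := B) (S := Y) I.two I.symm I.nd (fun M hM => (hY M hM).2)
    (fun M hM => (hY M hM).1) hc I.dim
  set d : Fin 12 → F := fun j => B (v j) (v j) with hd
  have hom : ∀ J, sgn v J ∈ I.Om ↔ GJ d J := fun J => I.signs v hv1 J
  have hzz : z * z = 1 := by
    have h1 := I.mul (Rz I) (Rz I)
    rw [mul_one, mul_one] at h1
    rcases I.ker h1 with h | h
    · exact h
    · exact absurd (by simpa using h) hz
  have hzW : ∃ J, GJ d J ∧ I.R z 1 (sgn v J) := ⟨∅, ⟨by simp, ⟨1, by simp⟩⟩, by rw [sgn_empty]; exact Rz I⟩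
  have hmulW : ∀ {a b : G}, (∃ J, GJ d J ∧ I.R a 1 (sgn v J)) → (∃ J, GJ d J ∧ I.R b 1 (sgn v J)) →
      ∃ J, GJ d J ∧ I.R (a * b) 1 (sgn v J) := by
    rintro a b ⟨J, hJ, hJ'⟩ ⟨K, hK, hK'⟩
    refine ⟨J ∆ K, gj_symmDiff hv2 (iff_of_true hJ.1 hK.1) (iff_of_true hJ.2 hK.2), ?_⟩
    have := I.mul hJ' hK'
    rwa [mul_one, sgn_mul] at this
  have hsqW : ∀ {a : G}, (∃ J, GJ d J ∧ I.R a 1 (sgn v J)) → a * a = 1 ∨ a * a = z := by
    rintro a ⟨J, hJ, hJ'⟩
    have := I.mul hJ' hJ'
    rw [mul_one, sgn_mul, symmDiff_self] at this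
    refine I.ker ?_
    rwa [Finset.bot_eq_empty, sgn_empty] at this
  have hone : ∃ J, GJ d J ∧ I.R 1 1 (sgn v J) := by
    have := hmulW hzW hzW
    rwa [hzz] at this
  let W : Subgroup G :=
    { carrier := {g | ∃ J, GJ d J ∧ I.R g 1 (sgn v J)}
      mul_mem' := fun ha hb => hmulW ha hb
      one_mem' := hone
      inv_mem' := by
        intro a ha
        rcases hsqW ha with h | h
        · have : a⁻¹ = a := inv_eq_of_mul_eq_one_left h
          rw [this]
          exact ha
        · have : a⁻¹ = a * z := by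
            refine inv_eq_of_mul_eq_one_right ?_
            rw [← mul_assoc, h, hzz]
          rw [this]
          exact hmulW ha hzW }
  have hW : ∀ g, g ∈ W ↔ ∃ J, GJ d J ∧ I.R g 1 (sgn v J) := fun g => Iff.rfl
  refine ⟨W, ?_, ?_, hzW, ?_⟩
  · rintro ⟨g, hg⟩
    refine ⟨2, Subtype.ext ?_⟩
    change g ^ (2 ^ 2) = 1
    have h1 : g ^ (2 ^ 2) = (g * g) * (g * g) := by
      rw [← pow_two, ← pow_two, ← pow_mul]
      norm_num
    rw [h1]
    rcases hsqW hg with h | h <;> rw [h]
    · rw [mul_one]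
    · exact hzz
  · -- the order
    have hex : ∀ J : Finset (Fin 12), ∃ g, GJ d J → I.R g 1 (sgn v J) := by
      intro J
      by_cases hJ : GJ d J
      · obtain ⟨g, hg⟩ := I.omS ((hom J).2 hJ)
        exact ⟨g, fun _ => hg⟩
      · exact ⟨1, fun h => absurd h hJ⟩
    choose γ hγ using hex
    let S : Finset (Finset (Fin 12)) := Finset.univ.filter fun J => GJ d J
    let f : Finset (Fin 12) × Bool → G := fun x => γ x.1 * (if x.2 then z else 1)
    have hfW : ∀ x ∈ S ×ˢ (Finset.univ : Finset Bool), ∃ K, I.R (f x) 1 (sgn v x.1) ∧ GJ d K ∧ I.R (f x) 1 (sgn v K) := by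
      intro x hx
      rw [Finset.mem_product, Finset.mem_filter] at hx
      have hx' := hγ x.1 hx.1.2
      refine ⟨x.1, ?_⟩
      have key : I.R (f x) 1 (sgn v x.1) := by
        change I.R (γ x.1 * (if x.2 then z else 1)) 1 (sgn v x.1)
        split_ifs
        · have := I.mul hx' (Rz I)
          rwa [mul_one, mul_one] at this
        · rwa [mul_one]
      exact ⟨key, hx.1.2, key⟩
    have hfib : ∀ b ∈ (S ×ˢ (Finset.univ : Finset Bool)).image f,
        ((S ×ˢ (Finset.univ : Finset Bool)).filter fun x => f x = b).card ≤ 2 := by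
      intro b hb
      obtain ⟨x₀, hx₀, rfl⟩ := Finset.mem_image.1 hb
      have h1 : ∀ x ∈ (S ×ˢ (Finset.univ : Finset Bool)).filter fun x => f x = f x₀, x.1 = x₀.1 ∨ x.1 = x₀.1ᶜ := by
        intro x hx
        rw [Finset.mem_filter] at hx
        obtain ⟨_, hx1, _⟩ := hfW x hx.1
        obtain ⟨_, hx2, _⟩ := hfW x₀ hx₀
        rw [hx.2] at hx1
        obtain ⟨_, c, hcc⟩ := I.uniq hx2 hx1
        exact eq_or_compl v I.two hcc
      have h2 : Set.InjOn Prod.fst (((S ×ˢ (Finset.univ : Finset Bool)).filter fun x => f x = f x₀ :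
          Finset (Finset (Fin 12) × Bool)) : Set (Finset (Fin 12) × Bool)) := by
        rintro ⟨J, e⟩ hx ⟨J', e'⟩ hy h
        have hJ : J = J' := h
        subst hJ
        rw [Finset.mem_coe, Finset.mem_filter] at hx hy
        have h3 : f (J, e) = f (J, e') := hx.2.trans hy.2.symm
        have h4 : (if e then z else 1 : G) = if e' then z else 1 := mul_left_cancel h3
        have h5 : e = e' := by
          cases e <;> cases e' <;> simp_all
        rw [h5]
      calc _ = (((S ×ˢ (Finset.univ : Finset Bool)).filter fun x => f x = f x₀).image Prod.fst).card :=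
            (Finset.card_image_of_injOn h2).symm
        _ ≤ ({x₀.1, x₀.1ᶜ} : Finset (Finset (Fin 12))).card := by
            refine Finset.card_le_card fun J hJ => ?_
            obtain ⟨x, hx, rfl⟩ := Finset.mem_image.1 hJ
            rw [Finset.mem_insert, Finset.mem_singleton]
            exact h1 x hx
        _ ≤ 2 := Finset.card_le_two
    have h3 := Finset.card_le_mul_card_image (S ×ˢ (Finset.univ : Finset Bool)) 2 hfib
    rw [Finset.card_product, Finset.card_univ, Fintype.card_bool] at h3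
    have h4 : 2 ^ 10 ≤ S.card := card_gj hv2
    have h5 : ((S ×ˢ (Finset.univ : Finset Bool)).image f).card ≤ Nat.card W := by
      have h6 : Nat.card W = (W : Set G).ncard := Nat.card_coe_set_eq (W : Set G)
      rw [h6, ← Set.ncard_coe_finset]
      refine Set.ncard_le_ncard ?_ (Set.toFinite _)
      intro g hg
      rw [Finset.mem_coe, Finset.mem_image] at hg
      obtain ⟨x, hx, rfl⟩ := hg
      obtain ⟨K, _, hK, hK'⟩ := hfW x hx
      exact ⟨K, hK, hK'⟩
    omega
  · rintro w ⟨J, hJ, hJ'⟩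
    refine ⟨sgn v J, (hom J).2 hJ, hJ', ?_, fun M hM => sgn_comm v (hv3 M hM) J⟩
    rw [sgn_mul, symmDiff_self, Finset.bot_eq_empty, sgn_empty]

end main

end Cfsg.Agent.H898.Co3
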