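import Mathlib

/-!
# S1920, case B: a common orthogonal eigenbasis (helper898)

`S` is a set of pairwise commuting self-adjoint endomorphisms of a nondegenerate symmetric bilinear space, each with square
`ν²`, `ν ≠ 0`. Then there is an orthogonal basis of common eigenvectors.
-/

set_option autoImplicit false
set_option linter.unusedSectionVars false

namespace Cfsg.Agent.H898.Co3

open Module

variable {F V : Type*} [Field F] [AddCommGroup V] [Module F V]

section

variable {B : LinearMap.BilinForm F V} {S : Set (Module.End F V)}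

/-- a nondegenerate nonzero subspace contains a nonisotropic vector -/
theorem exists_aniso (h2 : (2 : F) ≠ 0) (hs : ∀ u v, B u v = B v u) {U : Submodule F V} (hU : U ≠ ⊥)
    (hn : ∀ u ∈ U, (∀ v ∈ U, B u v = 0) → u = 0) : ∃ u ∈ U, B u u ≠ 0 := by
  by_contra hcon
  push Not at hcon
  apply hU
  rw [Submodule.eq_bot_iff]
  intro u hu
  refine hn u hu fun v hv => ?_
  have h1 := hcon (u + v) (U.add_mem hu hv)
  simp only [map_add, LinearMap.add_apply] at h1
  rw [hcon u hu, hcon v hv, hs v u] at h1
  have h3 : 2 * B u v = 0 := by linear_combination h1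
  exact (mul_eq_zero.1 h3).resolve_left h2

/-- a nondegenerate nonzero `S`-stable subspace contains a nonisotropic common eigenvector -/
theorem exists_common [FiniteDimensional F V] (h2 : (2 : F) ≠ 0) (hs : ∀ u v, B u v = B v u)
    (hS : ∀ M ∈ S, ∃ ν : F, ν ≠ 0 ∧ M * M = ν ^ 2 • 1) (hB : ∀ M ∈ S, ∀ u v, B (M u) v = B u (M v))
    (hc : ∀ M ∈ S, ∀ N ∈ S, M * N = N * M) (k : ℕ) : ∀ U : Submodule F V, finrank F U ≤ k → U ≠ ⊥ →
      (∀ u ∈ U, (∀ v ∈ U, B u v = 0) → u = 0) → (∀ M ∈ S, ∀ u ∈ U, M u ∈ U) →
      ∃ u ∈ U, B u u ≠ 0 ∧ ∀ M ∈ S, ∃ c : F, M u = c • u := by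
  induction k with
  | zero =>
    intro U hk hU
    exact absurd (Submodule.finrank_eq_zero.1 (Nat.le_zero.1 hk)) hU
  | succ k ih =>
    intro U hk hU hn hst
    by_cases hall : ∀ M ∈ S, ∃ c : F, ∀ u ∈ U, M u = c • u
    · obtain ⟨u, hu, hu0⟩ := exists_aniso h2 hs hU hn
      refine ⟨u, hu, hu0, fun M hM => ?_⟩
      obtain ⟨c, hc⟩ := hall M hM
      exact ⟨c, hc u hu⟩
    · push Not at hall
      obtain ⟨M, hM, hne⟩ := hall
      obtain ⟨ν, hν, hMM⟩ := hS M hM
      have hMM' : ∀ v, M (M v) = ν ^ 2 • v := fun v => by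
        have := congrArg (fun f : Module.End F V => f v) hMM
        simpa using this
      let P : Submodule F V := U ⊓ LinearMap.ker (M - ν • (1 : Module.End F V))
      have hP : ∀ x, x ∈ P ↔ x ∈ U ∧ M x = ν • x := by
        intro x
        change x ∈ U ⊓ LinearMap.ker (M - ν • (1 : Module.End F V)) ↔ _
        rw [Submodule.mem_inf, LinearMap.mem_ker, LinearMap.sub_apply, sub_eq_zero]
        rfl
      have hPU : P ≤ U := inf_le_left
      have hPne : P ≠ U := by
        intro h
        obtain ⟨u, hu, hu'⟩ := hne ν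
        rw [← h, hP] at hu
        exact hu' hu.2
      have hP0 : P ≠ ⊥ := by
        intro h
        obtain ⟨u, hu, hu'⟩ := hne (-ν)
        have h1 : M u + ν • u ∈ P := by
          rw [hP]
          refine ⟨U.add_mem (hst M hM u hu) (U.smul_mem _ hu), ?_⟩
          rw [map_add, map_smul, hMM', smul_add, smul_smul, ← pow_two, add_comm]
        rw [h, Submodule.mem_bot] at h1
        apply hu'
        rw [neg_smul]
        exact eq_neg_of_add_eq_zero_left h1
      have hlt : finrank F P < finrank F U := Submodule.finrank_lt_finrank_of_lt (lt_of_le_of_ne hPU hPne)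
      -- decomposition
      have hdec : ∀ w ∈ U, ∃ a ∈ P, ∃ b ∈ U, M b = -(ν • b) ∧ w = a + b := by
        intro w hw
        refine ⟨(2 * ν)⁻¹ • (ν • w + M w), ?_, (2 * ν)⁻¹ • (ν • w - M w), ?_, ?_, ?_⟩
        · rw [hP]
          refine ⟨U.smul_mem _ (U.add_mem (U.smul_mem _ hw) (hst M hM w hw)), ?_⟩
          rw [map_smul, map_add, map_smul, hMM', smul_comm ν, smul_add ν, smul_smul ν, ← pow_two, add_comm (ν • M w)]
        · exact U.smul_mem _ (U.sub_mem (U.smul_mem _ hw) (hst M hM w hw))
        · rw [map_smul, map_sub, map_smul, hMM', smul_comm ν, smul_sub ν, smul_smul ν, ← pow_two, ← smul_neg, neg_sub]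
        · rw [← smul_add, show ν • w + M w + (ν • w - M w) = (2 * ν) • w by
            rw [two_mul, add_smul]; abel, smul_smul, inv_mul_cancel₀ (mul_ne_zero h2 hν), one_smul]
      have hort : ∀ u ∈ P, ∀ b, M b = -(ν • b) → B u b = 0 := by
        intro u hu b hb
        have h1 := hB M hM u b
        rw [((hP u).1 hu).2, hb, map_smul, LinearMap.smul_apply, map_neg, map_smul, smul_eq_mul] at h1
        have h3 : (2 * ν) * B u b = 0 := by linear_combination h1
        exact (mul_eq_zero.1 h3).resolve_left (mul_ne_zero h2 hν)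
      have hPn : ∀ u ∈ P, (∀ v ∈ P, B u v = 0) → u = 0 := by
        intro u hu h
        refine hn u (hPU hu) fun w hw => ?_
        obtain ⟨a, ha, b, _, hb, rfl⟩ := hdec w hw
        rw [map_add, h a ha, hort u hu b hb, add_zero]
      have hPst : ∀ N ∈ S, ∀ u ∈ P, N u ∈ P := by
        intro N hN u hu
        rw [hP] at hu ⊢
        refine ⟨hst N hN u hu.1, ?_⟩
        have h1 := congrArg (fun f : Module.End F V => f u) (hc M hM N hN)
        rw [Module.End.mul_apply, Module.End.mul_apply, hu.2, map_smul] at h1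
        exact h1
      obtain ⟨u, hu, h3⟩ := ih P (by omega) hP0 hPn hPst
      exact ⟨u, hPU hu, h3⟩

/-- orthogonal families of common eigenvectors -/
theorem exists_family [FiniteDimensional F V] (h2 : (2 : F) ≠ 0) (hs : ∀ u v, B u v = B v u)
    (hn : ∀ u, (∀ v, B u v = 0) → u = 0)
    (hS : ∀ M ∈ S, ∃ ν : F, ν ≠ 0 ∧ M * M = ν ^ 2 • 1) (hB : ∀ M ∈ S, ∀ u v, B (M u) v = B u (M v))
    (hc : ∀ M ∈ S, ∀ N ∈ S, M * N = N * M) (k : ℕ) (hk : k ≤ finrank F V) :
    ∃ v : Fin k → V, (∀ i j, i ≠ j → B (v i) (v j) = 0) ∧ (∀ i, B (v i) (v i) ≠ 0) ∧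
      ∀ M ∈ S, ∀ i, ∃ c : F, M (v i) = c • v i := by
  classical
  induction k with
  | zero => exact ⟨fun i => i.elim0, fun i => i.elim0, fun i => i.elim0, fun _ _ i => i.elim0⟩
  | succ k ih =>
    obtain ⟨v, hv1, hv2, hv3⟩ := ih (by omega)
    let U : Submodule F V :=
      { carrier := {x | ∀ i, B (v i) x = 0}
        add_mem' := fun {a b} ha hb i => by rw [map_add, ha i, hb i, add_zero]
        zero_mem' := fun i => map_zero _
        smul_mem' := fun c x hx i => by rw [map_smul, hx i, smul_zero] }
    have hU : ∀ x, x ∈ U ↔ ∀ i, B (v i) x = 0 := fun x => Iff.rfl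
    have hproj : ∀ w, w - ∑ i, (B (v i) w / B (v i) (v i)) • v i ∈ U := by
      intro w
      rw [hU]
      intro j
      rw [map_sub, map_sum, Finset.sum_eq_single j]
      · rw [map_smul, smul_eq_mul, div_mul_cancel₀ _ (hv2 j), sub_self]
      · intro i _ hi
        rw [map_smul, hv1 j i hi.symm, smul_zero]
      · intro h
        exact absurd (Finset.mem_univ j) h
    have hU0 : U ≠ ⊥ := by
      intro h
      have h1 : (⊤ : Submodule F V) ≤ Submodule.span F (Set.range v) := by
        intro w _
        have h3 := hproj w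
        rw [h, Submodule.mem_bot, sub_eq_zero] at h3
        rw [h3]
        exact Submodule.sum_mem _ fun i _ => Submodule.smul_mem _ _ (Submodule.subset_span ⟨i, rfl⟩)
      have h4 : finrank F V ≤ k := by
        have h5 := finrank_range_le_card (R := F) v
        rw [Set.finrank, top_le_iff.1 h1, finrank_top, Fintype.card_fin] at h5
        exact h5
      omega
    have hUn : ∀ u ∈ U, (∀ w ∈ U, B u w = 0) → u = 0 := by
      intro u hu h
      refine hn u fun w => ?_
      have h3 := h _ (hproj w)
      rw [map_sub, map_sum, Finset.sum_eq_zero, sub_zero] at h3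
      · exact h3
      · intro i _
        rw [map_smul, hs u (v i), (hU u).1 hu i, smul_zero]
    have hUst : ∀ M ∈ S, ∀ u ∈ U, M u ∈ U := by
      intro M hM u hu
      rw [hU] at hu ⊢
      intro i
      obtain ⟨c, hc⟩ := hv3 M hM i
      rw [← hB M hM, hc, map_smul, LinearMap.smul_apply, hu i, smul_zero]
    obtain ⟨u, hu, hu0, hu3⟩ := exists_common h2 hs hS hB hc _ U le_rfl hU0 hUn hUst
    refine ⟨Fin.snoc v u, ?_, ?_, ?_⟩
    · intro i j hij
      induction i using Fin.lastCases with
      | last =>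
        induction j using Fin.lastCases with
        | last => exact absurd rfl hij
        | cast j => rw [Fin.snoc_last, Fin.snoc_castSucc, hs]; exact hu j
      | cast i =>
        induction j using Fin.lastCases with
        | last => rw [Fin.snoc_last, Fin.snoc_castSucc]; exact hu i
        | cast j =>
          rw [Fin.snoc_castSucc, Fin.snoc_castSucc]
          exact hv1 i j fun e => hij (by rw [e])
    · intro i
      induction i using Fin.lastCases with
      | last => rw [Fin.snoc_last]; exact hu0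
      | cast i => rw [Fin.snoc_castSucc]; exact hv2 i
    · intro M hM i
      induction i using Fin.lastCases with
      | last => rw [Fin.snoc_last]; exact hu3 M hM
      | cast i => rw [Fin.snoc_castSucc]; exact hv3 M hM i

/-- **common orthogonal eigenbasis** -/
theorem exists_eigenbasis [FiniteDimensional F V] (h2 : (2 : F) ≠ 0) (hs : ∀ u v, B u v = B v u)
    (hn : ∀ u, (∀ v, B u v = 0) → u = 0)
    (hS : ∀ M ∈ S, ∃ ν : F, ν ≠ 0 ∧ M * M = ν ^ 2 • 1) (hB : ∀ M ∈ S, ∀ u v, B (M u) v = B u (M v))
    (hc : ∀ M ∈ S, ∀ N ∈ S, M * N = N * M) {n : ℕ} (hd : finrank F V = n) :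
    ∃ v : Basis (Fin n) F V, (∀ i j, i ≠ j → B (v i) (v j) = 0) ∧ (∀ i, B (v i) (v i) ≠ 0) ∧
      ∀ M ∈ S, ∀ i, ∃ c : F, M (v i) = c • v i := by
  classical
  obtain ⟨v, hv1, hv2, hv3⟩ := exists_family h2 hs hn hS hB hc n hd.ge
  have hli : LinearIndependent F v := by
    rw [Fintype.linearIndependent_iff]
    intro g hg j
    have h1 : B (v j) (∑ i, g i • v i) = g j * B (v j) (v j) := by
      rw [map_sum, Finset.sum_eq_single j]
      · rw [map_smul, smul_eq_mul]
      · intro i _ hi
        rw [map_smul, hv1 j i hi.symm, smul_zero]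
      · intro h
        exact absurd (Finset.mem_univ j) h
    rw [hg, map_zero] at h1
    exact (mul_eq_zero.1 h1.symm).resolve_right (hv2 j)
  refine ⟨basisOfLinearIndependentOfCardEqFinrank' v hli (by rw [Fintype.card_fin, hd]), ?_, ?_, ?_⟩
  · intro i j hij
    rw [coe_basisOfLinearIndependentOfCardEqFinrank']
    exact hv1 i j hij
  · intro i
    rw [coe_basisOfLinearIndependentOfCardEqFinrank']
    exact hv2 i
  · intro M hM i
    rw [coe_basisOfLinearIndependentOfCardEqFinrank']
    exact hv3 M hM i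

end

end Cfsg.Agent.H898.Co3
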